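import Cfsg.Agent.Lib.Helper21.Uni.Defs
import Cfsg.Agent.Lib.Helper19.Uni.C1
import Cfsg.Agent.Lib.Helper19.Uni.C2
import Cfsg.Agent.Lib.Helper19.Uni.C3
import Cfsg.Agent.Lib.Helper19.Uni.C5
import Cfsg.Agent.Lib.Helper19.Uni.C7
import Cfsg.Agent.Lib.Helper19.Uni.C8
import Cfsg.Agent.Lib.Helper30.Uni.C10
import Cfsg.Agent.Lib.Helper30.Uni.C11
import Cfsg.Agent.Lib.Helper30.Uni.G1
import Cfsg.Agent.Lib.Helper89.Uni.J3
import Cfsg.Agent.Lib.Helper89.Uni.G3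
import Cfsg.Agent.Lib.Helper89.Uni.G4

set_option autoImplicit false

/-! G6, G7 of helper21's farm Uni: proofs copied from helper21's `stubs/Uni/StubsB.lean`. -/

namespace Cfsg.Agent.Lib.Helper89.Uni

open Matrix Module Cfsg.Agent.Lib.Helper67.Elus Cfsg.Agent.Lib.Helper21.Uni
open Cfsg.Agent.Lib.Helper19.Uni Cfsg.Agent.Lib.Helper30.Uni

variable {F : Type*} [Field F]
variable {I J K L : Type} [Fintype I] [Fintype J] [Fintype K] [Fintype L]
  [DecidableEq I] [DecidableEq J] [DecidableEq K] [DecidableEq L]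

/-- G6 -/
theorem realM_odd (a : ℕ) {c : F} (hc : c ≠ 0) : RealM (bs (Ln c) (Hy (Fin a) F)) {2 * a + 1} := by
  have hc' : (-1 : F) ^ a * c ≠ 0 := mul_ne_zero (pow_ne_zero _ (by simp)) hc
  have h1 : RealM (((-1 : F) ^ a * c) • anti F (2 * a + 1)) {2 * a + 1} := by
    refine ⟨shift F (2 * a + 1), jtype_shift _, ?_⟩
    rw [Matrix.mul_smul, shift_anti, Matrix.smul_mul, smul_neg]
  have h2 := realM_congr h1 (cg_anti_odd a hc')
  have h3 : (-1 : F) ^ a * ((-1) ^ a * c) = c := by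
    rw [← mul_assoc, ← pow_add, ← two_mul, pow_mul]
    simp
  rwa [h3] at h2

/-- G7 -/
theorem realM_odd_pair (h2 : (2 : F) ≠ 0) (a a' : ℕ) :
    RealM (Hy (Fin (a + a' + 1)) F) {2 * a + 1, 2 * a' + 1} := by
  have h1 := realM_blocks (realM_odd (F := F) a (c := 1) one_ne_zero)
    (realM_odd (F := F) a' (c := -1) (by simp))
  have e : Unit ⊕ (Fin a ⊕ Fin a') ≃ Fin (a + a' + 1) :=
    Fintype.equivFinOfCardEq (by simp; ring)
  have hc : Cg (bs (bs (Ln (1 : F)) (Hy (Fin a) F)) (bs (Ln (-1 : F)) (Hy (Fin a') F)))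
      (Hy (Fin (a + a' + 1)) F) :=
    cg_trans (cg_trans (cg_interchange _ _ _ _) (cg_blocks (cg_lines h2 one_ne_zero) cg_hy_sum))
      (cg_trans cg_hy_sum (cg_hy_congr e))
  exact realM_congr h1 hc

end Cfsg.Agent.Lib.Helper89.Uni
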