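import Cfsg.Agent.Lib.Helper21.Uni.Defs
import Cfsg.Agent.Lib.Helper89.Uni.G67
import Cfsg.Agent.Lib.Helper30.Uni.G5
import Cfsg.Agent.Lib.Helper96.Uni.I1

set_option autoImplicit false

namespace Cfsg.Agent.Lib.Helper89.Uni

open Matrix Module Cfsg.Agent.Lib.Helper67.Elus Cfsg.Agent.Lib.Helper21.Uni
open Cfsg.Agent.Lib.Helper19.Uni Cfsg.Agent.Lib.Helper30.Uni Cfsg.Agent.Lib.Helper96.Uni

variable {F : Type*} [Field F]
variable {I J K L : Type} [Fintype I] [Fintype J] [Fintype K] [Fintype L]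
  [DecidableEq I] [DecidableEq J] [DecidableEq K] [DecidableEq L]

theorem realM_zero_I2 : RealM (Hy (Fin 0) F) 0 := by
  refine ⟨0, ⟨Empty, inferInstance, fun k => k.elim, Module.Basis.empty _, by simp, ?_⟩, by simp⟩
  intro k
  exact k.elim

theorem realM_plus_aux (h2 : (2 : F) ≠ 0) (n : ℕ) : ∀ μ : Multiset ℕ, Multiset.card μ = n → Adm μ →
    ∀ d : ℕ, μ.sum = 2 * d → RealM (Hy (Fin d) F) μ := by
  induction n using Nat.strong_induction_on with
  | _ n ih =>
    intro μ hn hA d hs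
    by_cases h0 : μ = 0
    · subst h0
      have hd : d = 0 := by simpa using hs.symm
      subst hd
      exact realM_zero_I2
    obtain ⟨e, e', μ', hμ, hee, hA', hev⟩ := exists_pair_of_adm hA ⟨d, by rw [hs, two_mul]⟩ h0
    obtain ⟨d', hd'⟩ := hev
    have hcard : Multiset.card μ' < n := by
      rw [← hn, hμ]
      simp
    have hIH := ih _ hcard μ' rfl hA' d' (by rw [hd', two_mul])
    have hsum : e + e' + (d' + d') = 2 * d := by
      rw [← hs, hμ, Multiset.sum_add, hd']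
      simp
    obtain ⟨k, hk, hkd⟩ : ∃ k, RealM (Hy (Fin k) F) ({e, e'} : Multiset ℕ) ∧ d = k + d' := by
      rcases hee with rfl | ⟨⟨a, rfl⟩, ⟨a', rfl⟩⟩
      · exact ⟨e, realM_pair e, by omega⟩
      · exact ⟨a + a' + 1, realM_odd_pair h2 a a', by omega⟩
    subst hkd
    rw [hμ]
    exact realM_congr (realM_blocks hk hIH) (cg_trans cg_hy_sum (cg_hy_congr finSumFinEquiv))

/-- I2 -/
theorem realM_plus (h2 : (2 : F) ≠ 0) (μ : Multiset ℕ) (hA : Adm μ) (d : ℕ) (hs : μ.sum = 2 * d) :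
    RealM (Hy (Fin d) F) μ := realM_plus_aux h2 _ μ rfl hA d hs

end Cfsg.Agent.Lib.Helper89.Uni
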