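import Cfsg.Agent.Lib.Helper21.Uni.Defs
import Cfsg.Agent.Lib.Helper89.Uni.I2
import Cfsg.Agent.Lib.Helper19.Uni.C6

set_option autoImplicit false

namespace Cfsg.Agent.Lib.Helper89.Uni

open Matrix Module Cfsg.Agent.Lib.Helper67.Elus Cfsg.Agent.Lib.Helper21.Uni
open Cfsg.Agent.Lib.Helper19.Uni Cfsg.Agent.Lib.Helper30.Uni Cfsg.Agent.Lib.Helper96.Uni

variable {F : Type*} [Field F]
variable {I J K L : Type} [Fintype I] [Fintype J] [Fintype K] [Fintype L]
  [DecidableEq I] [DecidableEq J] [DecidableEq K] [DecidableEq L]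

theorem even_sum_I3 (μ : Multiset ℕ) (h : ∀ e ∈ μ, Even e) : Even μ.sum := by
  induction μ using Multiset.induction_on with
  | empty => simp
  | cons a s ih =>
    rw [Multiset.sum_cons]
    exact (h a (Multiset.mem_cons_self a s)).add (ih (fun e he => h e (Multiset.mem_cons_of_mem he)))

/-- I3 -/
theorem realM_oddDim (h2 : (2 : F) ≠ 0) {c : F} (hc : c ≠ 0) (μ : Multiset ℕ) (hA : Adm μ) (d : ℕ)
    (hs : μ.sum = 2 * d + 1) : RealM (bs (Ln c) (Hy (Fin d) F)) μ := by
  obtain ⟨e, heμ, hodd⟩ : ∃ e ∈ μ, Odd e := by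
    by_contra hcon
    push Not at hcon
    have h1 := even_sum_I3 μ (fun e he => Nat.not_odd_iff_even.1 (hcon e he))
    rw [hs] at h1
    exact (Nat.not_even_iff_odd.2 ⟨d, rfl⟩) h1
  obtain ⟨μ', rfl⟩ := Multiset.exists_cons_of_mem heμ
  obtain ⟨a, rfl⟩ := hodd
  have hA' : Adm μ' := by
    intro f hf
    have h1 := hA f hf
    rwa [Multiset.count_cons_of_ne] at h1
    rintro rfl
    exact (Nat.not_even_iff_odd.2 ⟨a, rfl⟩) hf
  rw [Multiset.sum_cons] at hs
  have had : a ≤ d := by omega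
  have hI2 := realM_plus (F := F) h2 μ' hA' (d - a) (by omega)
  have h3 := realM_blocks (realM_odd (F := F) a hc) hI2
  rw [Multiset.singleton_add] at h3
  exact realM_congr h3 (cg_trans (cg_assoc _ _ _) (cg_blocks (cg_refl _)
    (cg_trans cg_hy_sum (cg_hy_congr (finSumFinEquiv.trans (finCongr (by omega)))))))

end Cfsg.Agent.Lib.Helper89.Uni
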